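import Mathlib.RingTheory.Flat.Basic
import Mathlib.RingTheory.Localization.Module
import Mathlib.RingTheory.Localization.Finiteness
import Mathlib.LinearAlgebra.TensorProduct.Finiteness
import Mathlib.RingTheory.Localization.FractionRing
import Mathlib.RingTheory.Localization.AtPrime.Basic
import Mathlib.RingTheory.Flat.Stability
import Mathlib.RingTheory.Ideal.GoingDown
import Mathlib.Algebra.Module.Torsion.Basic
import Mathlib.LinearAlgebra.TensorProduct.RightExactness
import Mathlib.RingTheory.TensorProduct.Quotient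
import Mathlib.LinearAlgebra.Dimension.Finite
import Mathlib.LinearAlgebra.TensorProduct.Pi

/-!
# Symbolic powers under flat extensions
-/

universe u

open TensorProduct

namespace Groth.Agent.CAlgSymbolic

/-- A finite torsion-free module over a domain embeds in a finite free module. -/
theorem exists_injective_free {D N : Type u} [CommRing D] [IsDomain D] [AddCommGroup N] [Module D N]
    [Module.Finite D N] (htf : ∀ (d : D) (n : N), d ≠ 0 → d • n = 0 → n = 0) :
    ∃ (k : ℕ) (f : N →ₗ[D] (Fin k → D)), Function.Injective f := by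
  classical
  let K := FractionRing D
  let V := LocalizedModule (nonZeroDivisors D) N
  let φ := LocalizedModule.mkLinearMap (nonZeroDivisors D) N
  have hφ : Function.Injective φ := by
    rw [injective_iff_map_eq_zero]
    intro n hn
    obtain ⟨⟨d, hd⟩, hdn⟩ := (IsLocalizedModule.eq_zero_iff (nonZeroDivisors D) φ).1 hn
    exact htf d n (nonZeroDivisors.ne_zero hd) hdn
  haveI : Module.Finite K V := Module.Finite.of_isLocalizedModule (nonZeroDivisors D) (Rₚ := K) φ
  let b := Module.finBasis K V
  obtain ⟨G, hG⟩ := (Module.Finite.fg_top : (⊤ : Submodule D N).FG)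
  let crd : N →ₗ[D] (Fin (Module.finrank K V) → K) :=
    (b.equivFun.toLinearMap.restrictScalars D).comp φ
  have hcrd : Function.Injective crd := b.equivFun.injective.comp hφ
  obtain ⟨⟨a, ha⟩, hab⟩ := IsLocalization.exist_integer_multiples (nonZeroDivisors D)
    (G ×ˢ (Finset.univ : Finset (Fin (Module.finrank K V)))) (fun z => crd z.1 z.2)
  have hmem : ∀ n i, ∃ c : D, algebraMap D K c = a • crd n i := by
    intro n i
    have hn : n ∈ Submodule.span D (G : Set N) := hG ▸ Submodule.mem_top
    induction hn using Submodule.span_induction with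
    | mem n hn =>
      obtain ⟨c, hc⟩ := hab (n, i) (Finset.mem_product.2 ⟨hn, Finset.mem_univ _⟩)
      exact ⟨c, hc⟩
    | zero => exact ⟨0, by simp⟩
    | add x y _ _ hx hy =>
      obtain ⟨c, hc⟩ := hx; obtain ⟨c', hc'⟩ := hy
      exact ⟨c + c', by rw [map_add, hc, hc', map_add, Pi.add_apply, smul_add]⟩
    | smul r x _ hx =>
      obtain ⟨c, hc⟩ := hx
      exact ⟨r * c, by rw [map_mul, hc, map_smul, Pi.smul_apply, ← Algebra.smul_def, smul_comm]⟩
  choose c hc using hmem
  have hinj := IsFractionRing.injective D K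
  refine ⟨_, { toFun := fun n i => c n i, map_add' := fun x y => funext fun i => hinj ?_,
               map_smul' := fun r x => funext fun i => hinj ?_ }, fun x y h => hcrd (funext fun i => ?_)⟩
  · rw [Pi.add_apply, map_add, hc, hc, hc, map_add, Pi.add_apply, smul_add]
  · rw [Pi.smul_apply, smul_eq_mul, map_mul, hc, RingHom.id_apply, hc, map_smul, Pi.smul_apply,
      ← Algebra.smul_def, smul_comm]
  · have he : a • crd x i = a • crd y i := by rw [← hc, ← hc]; exact congrArg _ (congrFun h i)
    rw [Algebra.smul_def, Algebra.smul_def] at he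
    exact mul_left_cancel₀ ((map_ne_zero_iff _ hinj).2 (nonZeroDivisors.ne_zero ha)) he

variable {R S : Type u} [CommRing R] [CommRing S] [Algebra R S] [Module.Flat R S]
  (p : Ideal R) [p.IsPrime] [hq : (p.map (algebraMap R S)).IsPrime]

/-- Multiplication by `s ∉ pS` is injective on the base change of an `R/p`-torsion-free module. -/
theorem smul_injective_torsionFree {N : Type u} [AddCommGroup N] [Module R N]
    (hk : ∀ (r : R) (n : N), r ∈ p → r • n = 0) (htf : ∀ (r : R) (n : N), r ∉ p → r • n = 0 → n = 0)
    {s : S} (hs : s ∉ p.map (algebraMap R S)) (z : S ⊗[R] N) (hz : s • z = 0) : z = 0 := by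
  classical
  obtain ⟨N₀, hfin, hzN⟩ := TensorProduct.exists_finite_submodule_right_of_setFinite
    ({z} : Set (S ⊗[R] N)) (Set.finite_singleton z)
  obtain ⟨w, rfl⟩ := hzN (Set.mem_singleton z)
  haveI : Module.Finite R N₀ := hfin
  have hinjN : Function.Injective (N₀.subtype.baseChange S) :=
    Module.Flat.lTensor_preserves_injective_linearMap (M := S) N₀.subtype Subtype.val_injective
  have hw : s • w = 0 := hinjN (by
    rw [map_zero, map_smul]
    exact hz)
  suffices w = 0 by rw [this, map_zero]
  have htor : Module.IsTorsionBySet R N₀ p := fun n r => Subtype.ext (hk r n.1 r.2)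
  letI : Module (R ⧸ p) N₀ := htor.module
  haveI : Module.Finite (R ⧸ p) N₀ := Module.Finite.of_restrictScalars_finite R (R ⧸ p) N₀
  obtain ⟨k, f, hf⟩ := exists_injective_free (D := R ⧸ p) (N := N₀) (fun d n hd hdn => by
    obtain ⟨r, rfl⟩ := Ideal.Quotient.mk_surjective d
    refine Subtype.ext (htf r n.1 (fun hr => hd (Ideal.Quotient.eq_zero_iff_mem.2 hr)) ?_)
    exact congrArg Subtype.val hdn)
  let g : N₀ →ₗ[R] (Fin k → R ⧸ p) := f.restrictScalars R
  have hg : Function.Injective (g.baseChange S) :=
    Module.Flat.lTensor_preserves_injective_linearMap (M := S) g hf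
  apply hg
  rw [map_zero]
  let e := TensorProduct.piRight R S S (fun _ : Fin k => R ⧸ p)
  apply e.injective
  rw [map_zero]
  funext i
  have h1 : s • e (g.baseChange S w) i = 0 := by
    rw [← Pi.smul_apply, ← map_smul, ← map_smul, hw, map_zero, map_zero]
    rfl
  let ε := Algebra.TensorProduct.quotIdealMapEquivTensorQuot S p
  apply ε.symm.injective
  haveI := Ideal.Quotient.isDomain (p.map (algebraMap R S))
  have h2 : Ideal.Quotient.mk (p.map (algebraMap R S)) s * ε.symm (e (g.baseChange S w) i) = 0 := by
    have h := (ε.symm.toLinearEquiv.map_smul s (e (g.baseChange S w) i)).symm.trans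
      ((congrArg ε.symm.toLinearEquiv h1).trans ε.symm.toLinearEquiv.map_zero)
    rw [Algebra.smul_def] at h
    exact h
  rw [Pi.zero_apply, map_zero]
  exact (mul_eq_zero.1 h2).resolve_left fun h => hs (Ideal.Quotient.eq_zero_iff_mem.1 h)

/-- The symbolic power. -/
noncomputable def symb (n : ℕ) : Ideal R :=
  ((p ^ n).map (algebraMap R (Localization.AtPrime p))).comap (algebraMap R (Localization.AtPrime p))

lemma mem_symb {n : ℕ} {x : R} : x ∈ symb p n ↔ ∃ t, t ∉ p ∧ t * x ∈ p ^ n := by
  rw [symb, Ideal.mem_comap, IsLocalization.algebraMap_mem_map_algebraMap_iff p.primeCompl]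
  exact Iff.rfl

lemma under_map_eq : (p.map (algebraMap R S)).comap (algebraMap R S) = p := by
  refine le_antisymm ?_ Ideal.le_comap_map
  haveI : (p.map (algebraMap R S)).LiesOver ((p.map (algebraMap R S)).under R) := ⟨rfl⟩
  obtain ⟨P, hPle, hP, hPo⟩ := Ideal.exists_ideal_le_liesOver_of_le
    (p := p) (q := (p.map (algebraMap R S)).under R) (p.map (algebraMap R S)) Ideal.le_comap_map
  have : P = p.map (algebraMap R S) := le_antisymm hPle (Ideal.map_le_iff_le_comap.2 hPo.over.le)
  exact (this ▸ hPo.over).ge

/-- Elements outside `pS` are nonzero divisors modulo the symbolic powers. -/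
theorem mem_of_mul_mem {s : S} (hs : s ∉ p.map (algebraMap R S)) :
    ∀ (n : ℕ) (x : S), s * x ∈ (symb p n).map (algebraMap R S) → x ∈ (symb p n).map (algebraMap R S) := by
  intro n
  induction n with
  | zero =>
    intro x _
    have : symb p 0 = ⊤ := by
      rw [Ideal.eq_top_iff_one, mem_symb]
      exact ⟨1, fun h => ‹p.IsPrime›.ne_top ((Ideal.eq_top_iff_one p).2 h), by simp⟩
    rw [this, Ideal.map_top]
    exact Submodule.mem_top
  | succ n ih =>
    intro x hx
    have hle : symb p (n + 1) ≤ symb p n := fun r hr => by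
      obtain ⟨t, ht, h⟩ := (mem_symb p).1 hr
      exact (mem_symb p).2 ⟨t, ht, Ideal.pow_le_pow_right n.le_succ h⟩
    have hxn : x ∈ (symb p n).map (algebraMap R S) := ih x (Ideal.map_mono hle hx)
    let A : Submodule R R := symb p n
    let B : Submodule R A := Submodule.comap A.subtype (symb p (n + 1))
    let N := A ⧸ B
    have hk : ∀ (r : R) (m : N), r ∈ p → r • m = 0 := by
      intro r m hr
      obtain ⟨⟨a, ha⟩, rfl⟩ := Submodule.Quotient.mk_surjective B m
      obtain ⟨t, ht, h⟩ := (mem_symb p).1 ha
      refine (Submodule.Quotient.mk_smul B r _).symm.trans ((Submodule.Quotient.mk_eq_zero B).2 ?_)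
      show r • a ∈ symb p (n + 1)
      refine (mem_symb p).2 ⟨t, ht, ?_⟩
      rw [smul_eq_mul, pow_succ', mul_left_comm]
      exact Ideal.mul_mem_mul hr h
    have htf : ∀ (r : R) (m : N), r ∉ p → r • m = 0 → m = 0 := by
      intro r m hr hm
      obtain ⟨⟨a, ha⟩, rfl⟩ := Submodule.Quotient.mk_surjective B m
      rw [← Submodule.Quotient.mk_smul, Submodule.Quotient.mk_eq_zero] at hm
      obtain ⟨t, ht, h⟩ := (mem_symb p).1 (show r • a ∈ symb p (n + 1) from hm)
      refine (Submodule.Quotient.mk_eq_zero B).2 ((mem_symb p).2 ⟨t * r, ?_, ?_⟩)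
      · exact fun h' => (‹p.IsPrime›.mem_or_mem h').elim ht hr
      · rw [mul_assoc]; exact h
    let θ : S ⊗[R] A →ₗ[S] S :=
      (TensorProduct.AlgebraTensorModule.rid R S S).toLinearMap.comp (A.subtype.baseChange S)
    have hθinj : Function.Injective θ := (TensorProduct.AlgebraTensorModule.rid R S S).injective.comp
      (Module.Flat.lTensor_preserves_injective_linearMap (M := S) A.subtype Subtype.val_injective)
    have hθt : ∀ (b : S) (a : A), θ (b ⊗ₜ[R] a) = b * algebraMap R S a.1 := fun b a => by
      show TensorProduct.AlgebraTensorModule.rid R S S (b ⊗ₜ[R] (a.1 : R)) = _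
      rw [TensorProduct.AlgebraTensorModule.rid_tmul, Algebra.smul_def, mul_comm]
    have hrange : ∀ y ∈ (symb p n).map (algebraMap R S), ∃ w, θ w = y := fun y hy => by
      induction hy using Submodule.span_induction with
      | mem y hy =>
        obtain ⟨a, ha, rfl⟩ := hy
        exact ⟨1 ⊗ₜ[R] ⟨a, ha⟩, by rw [hθt, one_mul]⟩
      | zero => exact ⟨0, map_zero _⟩
      | add y z _ _ hy hz =>
        obtain ⟨a, ha⟩ := hy; obtain ⟨b, hb⟩ := hz
        exact ⟨a + b, by rw [map_add, ha, hb]⟩
      | smul r y _ hy =>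
        obtain ⟨a, ha⟩ := hy
        exact ⟨r • a, by rw [map_smul, ha]⟩
    obtain ⟨w, hw⟩ := hrange x hxn
    have hrangeB : ∀ y ∈ (symb p (n + 1)).map (algebraMap R S), ∃ v, θ (B.subtype.baseChange S v) = y :=
      fun y hy => by
      induction hy using Submodule.span_induction with
      | mem y hy =>
        obtain ⟨a, ha, rfl⟩ := hy
        refine ⟨1 ⊗ₜ[R] (⟨⟨a, hle ha⟩, ha⟩ : B), ?_⟩
        rw [LinearMap.baseChange_tmul, hθt, one_mul]
        rfl
      | zero => exact ⟨0, by rw [map_zero, map_zero]⟩
      | add y z _ _ hy hz =>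
        obtain ⟨a, ha⟩ := hy; obtain ⟨b, hb⟩ := hz
        exact ⟨a + b, by rw [map_add, map_add, ha, hb]⟩
      | smul r y _ hy =>
        obtain ⟨a, ha⟩ := hy
        exact ⟨r • a, by rw [map_smul, map_smul, ha]⟩
    obtain ⟨v, hv⟩ := hrangeB _ hx
    have hsw : B.subtype.baseChange S v = s • w := hθinj (by rw [hv, map_smul, hw, smul_eq_mul])
    have hexact := lTensor_exact S (LinearMap.exact_subtype_mkQ B) (Submodule.mkQ_surjective B)
    have h0 : B.mkQ.baseChange S w = 0 := by
      refine smul_injective_torsionFree p hk htf hs _ ?_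
      rw [← map_smul, ← hsw]
      exact (hexact _).2 ⟨v, rfl⟩
    obtain ⟨v', hv'⟩ := (hexact w).1 h0
    rw [← hw, ← hv']
    change θ (B.subtype.baseChange S v') ∈ _
    clear hv'
    induction v' using TensorProduct.induction_on with
    | zero => rw [map_zero, map_zero]; exact zero_mem _
    | tmul c a =>
      rw [LinearMap.baseChange_tmul, hθt]
      exact Ideal.mul_mem_left _ _ (Ideal.mem_map_of_mem _ a.2)
    | add a c ha hc => rw [map_add, map_add]; exact add_mem ha hc

/-- Symbolic powers commute with flat extension when the extended prime is prime. -/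
theorem symbolicPower_map (n : ℕ) :
    (symb p n).map (algebraMap R S) = symb (p.map (algebraMap R S)) n := by
  apply le_antisymm
  · rw [Ideal.map_le_iff_le_comap]
    intro x hx
    obtain ⟨t, ht, h⟩ := (mem_symb p).1 hx
    refine (mem_symb _).2 ⟨algebraMap R S t, fun h' => ht ?_, ?_⟩
    · rw [← under_map_eq (S := S) p]
      exact h'
    · rw [← map_mul, ← Ideal.map_pow]
      exact Ideal.mem_map_of_mem _ h
  · intro x hx
    obtain ⟨t, ht, h⟩ := (mem_symb _).1 hx
    rw [← Ideal.map_pow] at h
    refine mem_of_mul_mem p ht n x (Ideal.map_mono (fun r hr => ?_) h)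
    exact (mem_symb p).2 ⟨1, fun h1 => ‹p.IsPrime›.ne_top ((Ideal.eq_top_iff_one p).2 h1), by rwa [one_mul]⟩

end Groth.Agent.CAlgSymbolic
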